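import Mathlib

set_option autoImplicit false
set_option linter.unusedSectionVars false
set_option linter.unusedVariables false
set_option linter.unusedSimpArgs false
set_option linter.style.haveILetI false
set_option maxHeartbeats 400000

/-!
# The pairing `r(f, g) = ∑_P mult_P f * mult_P g * deg P`
-/

open Polynomial UniqueFactorizationMonoid

namespace Groth.Agent.Lib.Helper6.CommHom

universe u

variable {K : Type u} [Field K] [DecidableEq K] [DecidableEq K[X]]

/-- the pairing `r(f, g) = ∑_P mult_P f * mult_P g * deg P` -/
noncomputable def r (f g : K[X]) : ℕ :=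
  ∑ P ∈ (normalizedFactors f).toFinset,
    (normalizedFactors f).count P * (normalizedFactors g).count P * P.natDegree

lemma r_eq_sum (f g : K[X]) (S : Finset K[X]) (hS : (normalizedFactors f).toFinset ⊆ S) :
    r f g = ∑ P ∈ S,
      (normalizedFactors f).count P * (normalizedFactors g).count P * P.natDegree := by
  unfold r
  apply Finset.sum_subset hS
  intro P _ hP
  rw [Multiset.mem_toFinset] at hP
  rw [Multiset.count_eq_zero_of_notMem hP]
  simp

lemma r_mul_left {f g : K[X]} (hf : f ≠ 0) (hg : g ≠ 0) (h : K[X]) :
    r (f * g) h = r f h + r g h := by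
  have hfg : normalizedFactors (f * g) = normalizedFactors f + normalizedFactors g :=
    normalizedFactors_mul hf hg
  have h1 : (normalizedFactors f).toFinset ⊆ (normalizedFactors (f * g)).toFinset := by
    rw [hfg, Multiset.toFinset_add]; exact Finset.subset_union_left
  have h2 : (normalizedFactors g).toFinset ⊆ (normalizedFactors (f * g)).toFinset := by
    rw [hfg, Multiset.toFinset_add]; exact Finset.subset_union_right
  rw [r_eq_sum f h _ h1, r_eq_sum g h _ h2, r, ← Finset.sum_add_distrib]
  apply Finset.sum_congr rfl
  intro P _
  rw [hfg, Multiset.count_add]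
  ring

lemma r_mul_right (f : K[X]) {g h : K[X]} (hg : g ≠ 0) (hh : h ≠ 0) :
    r f (g * h) = r f g + r f h := by
  unfold r
  rw [← Finset.sum_add_distrib]
  apply Finset.sum_congr rfl
  intro P _
  rw [normalizedFactors_mul hg hh, Multiset.count_add]
  ring

lemma r_one_left (g : K[X]) : r 1 g = 0 := by
  simp [r, normalizedFactors_one]

lemma r_one_right (f : K[X]) : r f 1 = 0 := by
  simp [r, normalizedFactors_one]

lemma r_irreducible {P Q : K[X]} (hP : Irreducible P) (hPm : P.Monic) (hQ : Irreducible Q)
    (hQm : Q.Monic) : r P Q = if P = Q then P.natDegree else 0 := by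
  unfold r
  rw [normalizedFactors_irreducible hP, normalizedFactors_irreducible hQ,
    hPm.normalize_eq_self, hQm.normalize_eq_self]
  simp only [Multiset.toFinset_singleton, Finset.sum_singleton, Multiset.count_singleton]
  by_cases h : P = Q
  · subst h; simp
  · simp [h]

end Groth.Agent.Lib.Helper6.CommHom
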