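import Mathlib

set_option autoImplicit false
set_option linter.unusedSectionVars false
set_option linter.unusedVariables false
set_option linter.unusedSimpArgs false
set_option linter.style.haveILetI false
set_option maxHeartbeats 400000

/-!
# Splitting of the commutant map along invariant decompositions
-/

open Polynomial Module LinearMap

namespace Groth.Agent.Lib.Helper6.CommHom

universe u v w

variable {K : Type u} [Field K]
variable {V₁ : Type v} {V₂ : Type w} [AddCommGroup V₁] [Module K V₁] [AddCommGroup V₂]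
  [Module K V₂]

/-- the commutant map `h ↦ h ∘ π₁ - π₂ ∘ h` -/
noncomputable def T (π₁ : Module.End K V₁) (π₂ : Module.End K V₂) :
    (V₁ →ₗ[K] V₂) →ₗ[K] (V₁ →ₗ[K] V₂) :=
  LinearMap.lcomp K V₂ π₁ - LinearMap.llcomp K V₁ V₂ V₂ π₂

lemma T_apply (π₁ : Module.End K V₁) (π₂ : Module.End K V₂) (h : V₁ →ₗ[K] V₂) :
    T π₁ π₂ h = h ∘ₗ π₁ - π₂ ∘ₗ h := rfl

lemma T_apply_apply (π₁ : Module.End K V₁) (π₂ : Module.End K V₂) (h : V₁ →ₗ[K] V₂) (x : V₁) :
    T π₁ π₂ h x = h (π₁ x) - π₂ (h x) := rfl

lemma mem_ker_T {π₁ : Module.End K V₁} {π₂ : Module.End K V₂} {h : V₁ →ₗ[K] V₂} :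
    h ∈ ker (T π₁ π₂) ↔ ∀ x, h (π₁ x) = π₂ (h x) := by
  rw [mem_ker]
  constructor
  · intro hh x
    have := LinearMap.congr_fun hh x
    rw [T_apply_apply] at this
    exact sub_eq_zero.mp this
  · intro hh
    ext x
    rw [T_apply_apply, hh x, sub_self]
    rfl

/-- general splitting lemma for kernels -/
lemma finrank_ker_split {X Y Z : Type*} [AddCommGroup X] [Module K X] [AddCommGroup Y]
    [Module K Y] [AddCommGroup Z] [Module K Z] [FiniteDimensional K Y] [FiniteDimensional K Z]
    (T : X →ₗ[K] X) (T₁ : Y →ₗ[K] Y) (T₂ : Z →ₗ[K] Z) (E : X ≃ₗ[K] Y × Z)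
    (h1 : ∀ x, (E (T x)).1 = T₁ (E x).1) (h2 : ∀ x, (E (T x)).2 = T₂ (E x).2) :
    finrank K (ker T) = finrank K (ker T₁) + finrank K (ker T₂) := by
  let e : ker T ≃ₗ[K] (ker T₁) × (ker T₂) :=
    { toFun := fun x =>
        (⟨(E x.1).1, by
            rw [mem_ker, ← h1, mem_ker.mp x.2, map_zero]; rfl⟩,
          ⟨(E x.1).2, by
            rw [mem_ker, ← h2, mem_ker.mp x.2, map_zero]; rfl⟩)
      map_add' := fun x y => by
        ext <;> simp
      map_smul' := fun c x => by
        ext <;> simp
      invFun := fun p => ⟨E.symm (p.1.1, p.2.1), by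
        rw [mem_ker]
        apply E.injective
        rw [map_zero]
        ext
        · rw [h1, E.apply_symm_apply]
          exact mem_ker.mp p.1.2
        · rw [h2, E.apply_symm_apply]
          exact mem_ker.mp p.2.2⟩
      left_inv := fun x => by
        ext
        simp
      right_inv := fun p => by
        ext <;> simp }
  rw [LinearEquiv.finrank_eq e, Module.finrank_prod]

section Left

variable (π₁ : Module.End K V₁) (π₂ : Module.End K V₂) {A B : Submodule K V₁}
  (hA : A ∈ π₁.invtSubmodule) (hB : B ∈ π₁.invtSubmodule) (hAB : IsCompl A B)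

/-- restriction equivalence for `Hom(V₁, V₂)` along `V₁ = A ⊕ B` -/
noncomputable def leftEquiv (hAB : IsCompl A B) :
    (V₁ →ₗ[K] V₂) ≃ₗ[K] (A →ₗ[K] V₂) × (B →ₗ[K] V₂) where
  toFun h := (h ∘ₗ A.subtype, h ∘ₗ B.subtype)
  map_add' h h' := by ext <;> simp
  map_smul' c h := by ext <;> simp
  invFun p := LinearMap.ofIsCompl hAB p.1 p.2
  left_inv h := LinearMap.ofIsCompl_eq hAB (fun _ => rfl) (fun _ => rfl)
  right_inv p := by
    ext x
    · simp
    · simp

include hA hB hAB in
lemma finrank_ker_T_left [FiniteDimensional K V₁] [FiniteDimensional K V₂] :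
    finrank K (ker (T π₁ π₂)) =
      finrank K (ker (T (π₁.restrict hA) π₂)) + finrank K (ker (T (π₁.restrict hB) π₂)) := by
  apply finrank_ker_split (T π₁ π₂) (T (π₁.restrict hA) π₂) (T (π₁.restrict hB) π₂)
    (leftEquiv hAB)
  · intro h
    ext a
    rfl
  · intro h
    ext b
    rfl

end Left

section Right

variable (π₁ : Module.End K V₁) (π₂ : Module.End K V₂) {A B : Submodule K V₂}
  (hA : A ∈ π₂.invtSubmodule) (hB : B ∈ π₂.invtSubmodule) (hAB : IsCompl A B)

/-- projection equivalence for `Hom(V₁, V₂)` along `V₂ = A ⊕ B` -/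
noncomputable def rightEquiv (hAB : IsCompl A B) :
    (V₁ →ₗ[K] V₂) ≃ₗ[K] (V₁ →ₗ[K] A) × (V₁ →ₗ[K] B) where
  toFun h := (A.projectionOnto B hAB ∘ₗ h, B.projectionOnto A hAB.symm ∘ₗ h)
  map_add' h h' := by ext <;> simp
  map_smul' c h := by ext <;> simp
  invFun p := A.subtype ∘ₗ p.1 + B.subtype ∘ₗ p.2
  left_inv h := by
    ext x
    simp only [LinearMap.add_apply, LinearMap.comp_apply, Submodule.subtype_apply]
    have := Submodule.projection_add_projection_eq_self hAB (h x)
    simpa using this
  right_inv p := by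
    ext x
    · simp [Submodule.projectionOnto_apply_left, Submodule.projectionOnto_apply_right]
    · simp [Submodule.projectionOnto_apply_left, Submodule.projectionOnto_apply_right]

include hA hB in
lemma projectionOnto_comm (x : V₂) :
    A.projectionOnto B hAB (π₂ x) = π₂.restrict hA (A.projectionOnto B hAB x) := by
  have hx : x = (A.projectionOnto B hAB x : V₂) + (B.projectionOnto A hAB.symm x : V₂) := by
    have := Submodule.projection_add_projection_eq_self hAB x
    simpa using this.symm
  conv_lhs => rw [hx, map_add, map_add]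
  have h1 : A.projectionOnto B hAB (π₂ (A.projectionOnto B hAB x : V₂)) =
      π₂.restrict hA (A.projectionOnto B hAB x) :=
    Submodule.projectionOnto_apply_left hAB (π₂.restrict hA (A.projectionOnto B hAB x))
  have h2 : A.projectionOnto B hAB (π₂ (B.projectionOnto A hAB.symm x : V₂)) = 0 :=
    Submodule.projectionOnto_apply_of_mem_right hAB (hB (B.projectionOnto A hAB.symm x).2)
  rw [h1, h2, add_zero]

include hA hB hAB in
lemma finrank_ker_T_right [FiniteDimensional K V₁] [FiniteDimensional K V₂] :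
    finrank K (ker (T π₁ π₂)) =
      finrank K (ker (T π₁ (π₂.restrict hA))) + finrank K (ker (T π₁ (π₂.restrict hB))) := by
  apply finrank_ker_split (T π₁ π₂) (T π₁ (π₂.restrict hA)) (T π₁ (π₂.restrict hB))
    (rightEquiv hAB)
  · intro h
    ext x
    change ((A.projectionOnto B hAB (h (π₁ x) - π₂ (h x)) : A) : V₂) =
      ((A.projectionOnto B hAB (h (π₁ x)) - π₂.restrict hA (A.projectionOnto B hAB (h x)) : A) : V₂)
    rw [map_sub, projectionOnto_comm π₂ hA hB hAB]
  · intro h
    ext x
    change ((B.projectionOnto A hAB.symm (h (π₁ x) - π₂ (h x)) : B) : V₂) =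
      ((B.projectionOnto A hAB.symm (h (π₁ x)) -
        π₂.restrict hB (B.projectionOnto A hAB.symm (h x)) : B) : V₂)
    rw [map_sub, projectionOnto_comm π₂ hB hA hAB.symm]

end Right

section Charpoly

variable {V : Type v} [AddCommGroup V] [Module K V] [FiniteDimensional K V]
  (π : Module.End K V) {A B : Submodule K V}
  (hA : A ∈ π.invtSubmodule) (hB : B ∈ π.invtSubmodule) (hAB : IsCompl A B)

include hAB in
lemma charpoly_split :
    π.charpoly = (π.restrict hA).charpoly * (π.restrict hB).charpoly := by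
  rw [← LinearMap.charpoly_prodMap]
  rw [← LinearEquiv.charpoly_conj (Submodule.prodEquivOfIsCompl A B hAB)]
  congr 1
  apply LinearMap.ext
  intro x
  obtain ⟨⟨a, b⟩, rfl⟩ := (Submodule.prodEquivOfIsCompl A B hAB).surjective x
  rw [LinearEquiv.conj_apply_apply, LinearEquiv.symm_apply_apply]
  simp only [Submodule.coe_prodEquivOfIsCompl', LinearMap.prodMap_apply, map_add]
  rfl

end Charpoly

end Groth.Agent.Lib.Helper6.CommHom
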