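import Mathlib
import Groth.Agent.Lib.Helper6.CommHom.CHb

set_option autoImplicit false
set_option linter.unusedSectionVars false
set_option linter.unusedVariables false
set_option linter.unusedSimpArgs false
set_option linter.style.haveILetI false
set_option maxHeartbeats 400000

/-!
# Simple endomorphisms: cyclic vectors, charpoly = minpoly, Schur
-/

open Polynomial Module LinearMap

namespace Groth.Agent.Lib.Helper6.CommHom

universe u v w

variable {K : Type u} [Field K]

section Intertwine

variable {V : Type v} {V' : Type w} [AddCommGroup V] [Module K V] [AddCommGroup V']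
  [Module K V'] (π : Module.End K V) (π' : Module.End K V') (g : V →ₗ[K] V')
  (hg : ∀ x, g (π x) = π' (g x))

include hg in
lemma ker_mem_invt : ker g ∈ π.invtSubmodule := by
  intro x hx
  rw [Submodule.mem_comap, mem_ker, hg, mem_ker.mp hx, map_zero]

include hg in
lemma range_mem_invt : range g ∈ π'.invtSubmodule := by
  rintro _ ⟨x, rfl⟩
  exact ⟨π x, hg x⟩

include hg in
lemma aeval_intertwine (q : K[X]) : ∀ x, g (aeval π q x) = aeval π' q (g x) := by
  induction q using Polynomial.induction_on with
  | C a => intro x; simp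
  | add p q hp hq => intro x; simp [hp x, hq x]
  | monomial n a ih =>
    intro x
    have e1 : aeval π (C a * X ^ (n + 1)) = aeval π (C a * X ^ n) * π := by
      rw [pow_succ, ← mul_assoc, map_mul, aeval_X]
    have e2 : aeval π' (C a * X ^ (n + 1)) = aeval π' (C a * X ^ n) * π' := by
      rw [pow_succ, ← mul_assoc, map_mul, aeval_X]
    rw [e1, e2, Module.End.mul_apply, Module.End.mul_apply, ih, hg]

end Intertwine

variable {V : Type v} [AddCommGroup V] [Module K V]

lemma aeval_comm (π : Module.End K V) (q : K[X]) (x : V) :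
    aeval π q (π x) = π (aeval π q x) :=
  (aeval_intertwine π π π (fun _ => rfl) q x).symm

/-- simple endomorphism: nontrivial space and no proper nonzero invariant subspace -/
structure IsSimpleEnd (π : Module.End K V) : Prop where
  nontrivial : Nontrivial V
  eq_bot_or_top : ∀ A ∈ π.invtSubmodule, A = ⊥ ∨ A = ⊤

/-- the cyclic map `q ↦ q(π) v` -/
noncomputable def cyc (π : Module.End K V) (v : V) : K[X] →ₗ[K] V :=
  (LinearMap.applyₗ v).comp (aeval π).toLinearMap

lemma cyc_apply (π : Module.End K V) (v : V) (q : K[X]) : cyc π v q = aeval π q v := rfl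

namespace IsSimpleEnd

variable {π : Module.End K V} (hs : IsSimpleEnd π)

include hs in
lemma aeval_eq_zero_of_apply {v : V} (hv : v ≠ 0) {q : K[X]} (h : aeval π q v = 0) :
    aeval π q = 0 := by
  have hinv : ker (aeval π q) ∈ π.invtSubmodule :=
    ker_mem_invt π π (aeval π q) (aeval_comm π q)
  rcases hs.eq_bot_or_top _ hinv with hb | ht
  · exfalso
    have : v ∈ ker (aeval π q) := mem_ker.mpr h
    rw [hb, Submodule.mem_bot] at this
    exact hv this
  · exact LinearMap.ker_eq_top.mp ht

include hs in
lemma cyc_surjective {v : V} (hv : v ≠ 0) : Function.Surjective (cyc π v) := by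
  have hinv : range (cyc π v) ∈ π.invtSubmodule := by
    rintro _ ⟨q, rfl⟩
    refine ⟨X * q, ?_⟩
    rw [cyc_apply, cyc_apply, map_mul, aeval_X, Module.End.mul_apply]
  rcases hs.eq_bot_or_top _ hinv with hb | ht
  · exfalso
    have : v ∈ range (cyc π v) := ⟨1, by rw [cyc_apply, map_one, Module.End.one_apply]⟩
    rw [hb, Submodule.mem_bot] at this
    exact hv this
  · exact LinearMap.range_eq_top.mp ht

variable [FiniteDimensional K V]

lemma isIntegral_end (π : Module.End K V) : IsIntegral K π :=
  Algebra.IsIntegral.isIntegral π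

include hs in
lemma cyc_eq_zero_iff {v : V} (hv : v ≠ 0) (q : K[X]) :
    aeval π q v = 0 ↔ minpoly K π ∣ q := by
  constructor
  · intro h
    exact minpoly.dvd K π (hs.aeval_eq_zero_of_apply hv h)
  · rintro ⟨c, rfl⟩
    rw [map_mul, minpoly.aeval, zero_mul, LinearMap.zero_apply]

include hs in
lemma irreducible_minpoly : Irreducible (minpoly K π) := by
  haveI := hs.nontrivial
  have hne : minpoly K π ≠ 0 := minpoly.ne_zero (isIntegral_end π)
  rw [irreducible_iff]
  refine ⟨minpoly.not_isUnit K π, ?_⟩
  intro a b hab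
  have hz : aeval π a * aeval π b = 0 := by
    rw [← map_mul, ← hab, minpoly.aeval]
  have key : ∀ c d : K[X], minpoly K π = c * d → minpoly K π ∣ c → IsUnit d := by
    intro c d hcd ⟨e, he⟩
    have h1 : minpoly K π * 1 = minpoly K π * (e * d) := by
      rw [mul_one, ← mul_assoc, ← he, ← hcd]
    have h2 : 1 = e * d := mul_left_cancel₀ hne h1
    exact IsUnit.of_mul_eq_one e (by rw [mul_comm]; exact h2.symm)
  have hinv : ker (aeval π a) ∈ π.invtSubmodule :=
    ker_mem_invt π π (aeval π a) (aeval_comm π a)
  rcases hs.eq_bot_or_top _ hinv with hb | ht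
  · left
    have hb0 : aeval π b = 0 := by
      apply LinearMap.ext
      intro x
      have : aeval π a (aeval π b x) = 0 := by
        rw [← Module.End.mul_apply, hz, LinearMap.zero_apply]
      have hmem : aeval π b x ∈ ker (aeval π a) := mem_ker.mpr this
      rw [hb, Submodule.mem_bot] at hmem
      rw [hmem, LinearMap.zero_apply]
    exact key b a (by rw [hab, mul_comm]) (minpoly.dvd K π hb0)
  · right
    exact key a b hab (minpoly.dvd K π (LinearMap.ker_eq_top.mp ht))

include hs in
lemma finrank_le_natDegree_minpoly : finrank K V ≤ (minpoly K π).natDegree := by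
  haveI := hs.nontrivial
  obtain ⟨v, hv⟩ := exists_ne (0 : V)
  set P := minpoly K π with hP
  have hmonic : P.Monic := minpoly.monic (isIntegral_end π)
  set n := P.natDegree with hn
  haveI : Module.Finite K (degreeLT K n) := Module.Finite.equiv (degreeLTEquiv K n).symm
  have hfr : finrank K (degreeLT K n) = n := by
    rw [LinearEquiv.finrank_eq (degreeLTEquiv K n), Module.finrank_fin_fun]
  let f : degreeLT K n →ₗ[K] V := (cyc π v).comp (degreeLT K n).subtype
  have hf : Function.Surjective f := by
    intro w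
    obtain ⟨q, rfl⟩ := hs.cyc_surjective hv w
    have hmem : q %ₘ P ∈ degreeLT K n := by
      rw [mem_degreeLT]
      calc (q %ₘ P).degree < P.degree := degree_modByMonic_lt q hmonic
        _ = n := degree_eq_natDegree hmonic.ne_zero
    refine ⟨⟨q %ₘ P, hmem⟩, ?_⟩
    change aeval π (q %ₘ P) v = aeval π q v
    conv_rhs => rw [← modByMonic_add_div q P, map_add, map_mul, hP, minpoly.aeval, zero_mul,
      add_zero]
  have := LinearMap.finrank_le_finrank_of_surjective hf
  rwa [hfr] at this

include hs in
lemma charpoly_eq_minpoly : π.charpoly = minpoly K π := by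
  apply Polynomial.eq_of_monic_of_dvd_of_natDegree_le (minpoly.monic (isIntegral_end π))
    (LinearMap.charpoly_monic π) (LinearMap.minpoly_dvd_charpoly π)
  rw [LinearMap.charpoly_natDegree]
  exact hs.finrank_le_natDegree_minpoly

include hs in
lemma irreducible_charpoly : Irreducible π.charpoly := by
  rw [hs.charpoly_eq_minpoly]
  exact hs.irreducible_minpoly

include hs in
lemma natDegree_charpoly : π.charpoly.natDegree = finrank K V :=
  LinearMap.charpoly_natDegree π

end IsSimpleEnd

section Schur

variable {V₁ : Type v} {V₂ : Type w} [AddCommGroup V₁] [Module K V₁] [AddCommGroup V₂]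
  [Module K V₂] [FiniteDimensional K V₁] [FiniteDimensional K V₂]
  {π₁ : Module.End K V₁} {π₂ : Module.End K V₂} (hs₁ : IsSimpleEnd π₁) (hs₂ : IsSimpleEnd π₂)

include hs₁ hs₂ in
lemma ker_T_eq_bot (hne : π₁.charpoly ≠ π₂.charpoly) : ker (T π₁ π₂) = ⊥ := by
  rw [Submodule.eq_bot_iff]
  intro h hh
  rw [mem_ker_T] at hh
  by_contra h0
  apply hne
  rw [hs₁.charpoly_eq_minpoly, hs₂.charpoly_eq_minpoly]
  have hinj : ker h = ⊥ := by
    rcases hs₁.eq_bot_or_top _ (ker_mem_invt π₁ π₂ h hh) with hb | ht
    · exact hb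
    · exact absurd (LinearMap.ker_eq_top.mp ht) h0
  have hz : aeval π₁ (minpoly K π₂) = 0 := by
    apply LinearMap.ext
    intro x
    have : h (aeval π₁ (minpoly K π₂) x) = 0 := by
      rw [aeval_intertwine π₁ π₂ h hh, minpoly.aeval, LinearMap.zero_apply]
    have hmem : aeval π₁ (minpoly K π₂) x ∈ ker h := mem_ker.mpr this
    rw [hinj, Submodule.mem_bot] at hmem
    rw [hmem, LinearMap.zero_apply]
  have hdvd : minpoly K π₁ ∣ minpoly K π₂ := minpoly.dvd K π₁ hz
  haveI := hs₁.nontrivial
  have hassoc : Associated (minpoly K π₁) (minpoly K π₂) :=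
    ((hs₂.irreducible_minpoly.dvd_iff.mp hdvd).resolve_left (minpoly.not_isUnit K π₁)).symm
  exact Polynomial.eq_of_monic_of_associated (minpoly.monic (IsSimpleEnd.isIntegral_end π₁))
    (minpoly.monic (IsSimpleEnd.isIntegral_end π₂)) hassoc

include hs₁ hs₂ in
lemma finrank_ker_T_simple (heq : π₁.charpoly = π₂.charpoly) :
    finrank K (ker (T π₁ π₂)) = finrank K V₂ := by
  haveI := hs₁.nontrivial
  obtain ⟨v, hv⟩ := exists_ne (0 : V₁)
  have hmin : minpoly K π₁ = minpoly K π₂ := by
    rw [← hs₁.charpoly_eq_minpoly, ← hs₂.charpoly_eq_minpoly, heq]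
  let ev : ker (T π₁ π₂) →ₗ[K] V₂ := (LinearMap.applyₗ v).comp (ker (T π₁ π₂)).subtype
  have hev : ∀ h : ker (T π₁ π₂), ev h = h.1 v := fun _ => rfl
  have hinj : Function.Injective ev := by
    rw [injective_iff_map_eq_zero]
    intro h hh
    rw [hev] at hh
    have hcomm := mem_ker_T.mp h.2
    rcases hs₁.eq_bot_or_top _ (ker_mem_invt π₁ π₂ h.1 hcomm) with hb | ht
    · exfalso
      have : v ∈ ker h.1 := mem_ker.mpr hh
      rw [hb, Submodule.mem_bot] at this
      exact hv this
    · exact Subtype.ext (LinearMap.ker_eq_top.mp ht)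
  have hsurj : Function.Surjective ev := by
    intro w
    have hle : ker (cyc π₁ v) ≤ ker (cyc π₂ w) := by
      intro q hq
      rw [mem_ker, cyc_apply] at hq ⊢
      rw [hs₁.cyc_eq_zero_iff hv, hmin] at hq
      obtain ⟨c, rfl⟩ := hq
      rw [map_mul, minpoly.aeval, zero_mul, LinearMap.zero_apply]
    let hw : V₁ →ₗ[K] V₂ := ((ker (cyc π₁ v)).liftQ (cyc π₂ w) hle).comp
      ((cyc π₁ v).quotKerEquivOfSurjective (hs₁.cyc_surjective hv)).symm.toLinearMap
    have hw_apply : ∀ q : K[X], hw (aeval π₁ q v) = aeval π₂ q w := by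
      intro q
      change ((ker (cyc π₁ v)).liftQ (cyc π₂ w) hle)
        (((cyc π₁ v).quotKerEquivOfSurjective (hs₁.cyc_surjective hv)).symm (cyc π₁ v q)) = _
      rw [LinearMap.quotKerEquivOfSurjective_symm_apply, Submodule.liftQ_apply, cyc_apply]
    have hmem : hw ∈ ker (T π₁ π₂) := by
      rw [mem_ker_T]
      intro x
      obtain ⟨q, rfl⟩ := hs₁.cyc_surjective hv x
      rw [cyc_apply, hw_apply]
      have e1 : π₁ (aeval π₁ q v) = aeval π₁ (X * q) v := by
        rw [map_mul, aeval_X, Module.End.mul_apply]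
      have e2 : π₂ (aeval π₂ q w) = aeval π₂ (X * q) w := by
        rw [map_mul, aeval_X, Module.End.mul_apply]
      rw [e1, e2, hw_apply]
    refine ⟨⟨hw, hmem⟩, ?_⟩
    rw [hev]
    have := hw_apply 1
    rwa [map_one, map_one, Module.End.one_apply, Module.End.one_apply] at this
  exact LinearEquiv.finrank_eq (LinearEquiv.ofBijective ev ⟨hinj, hsurj⟩)

end Schur

end Groth.Agent.Lib.Helper6.CommHom
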