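import Mathlib
import Groth.Agent.Lib.Helper6.CommHom.CHa
import Groth.Agent.Lib.Helper6.CommHom.CHc

set_option autoImplicit false
set_option linter.unusedSectionVars false
set_option linter.unusedVariables false
set_option linter.unusedSimpArgs false
set_option linter.style.haveILetI false
set_option maxHeartbeats 400000

/-!
# Dimension of the commutant `Hom_{K[t]}(V₁, V₂)` for semisimple endomorphisms
-/

open Polynomial Module LinearMap

namespace Groth.Agent.Lib.Helper6.CommHom

universe u v w

variable {K : Type u} [Field K]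

lemma trichotomy {V : Type v} [AddCommGroup V] [Module K V] [FiniteDimensional K V]
    (π : Module.End K V) (hπ : π.IsSemisimple) :
    Subsingleton V ∨ IsSimpleEnd π ∨
      ∃ (A B : Submodule K V) (hA : A ∈ π.invtSubmodule) (hB : B ∈ π.invtSubmodule),
        IsCompl A B ∧ finrank K A < finrank K V ∧ finrank K B < finrank K V := by
  by_cases hsub : Subsingleton V
  · left; exact hsub
  right
  rw [not_subsingleton_iff_nontrivial] at hsub
  by_cases hall : ∀ A ∈ π.invtSubmodule, A = ⊥ ∨ A = ⊤
  · left; exact ⟨hsub, hall⟩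
  right
  simp only [not_forall, not_or] at hall
  obtain ⟨A, hA, hAbot, hAtop⟩ := hall
  obtain ⟨B, hB, hAB⟩ := (Module.End.isSemisimple_iff.mp hπ) A hA
  refine ⟨A, B, hA, hB, hAB, Submodule.finrank_lt hAtop,
    Submodule.finrank_lt ?_⟩
  rintro rfl
  apply hAbot
  have := hAB.inf_eq_bot
  simpa using this

lemma charpoly_of_subsingleton {V : Type v} [AddCommGroup V] [Module K V]
    [FiniteDimensional K V] [Subsingleton V] (π : Module.End K V) : π.charpoly = 1 := by
  have hm : π.charpoly.Monic := LinearMap.charpoly_monic π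
  apply Polynomial.eq_one_of_monic_natDegree_zero hm
  rw [LinearMap.charpoly_natDegree]
  exact Module.finrank_zero_of_subsingleton

theorem main_aux [DecidableEq K] [DecidableEq K[X]] : ∀ (n : ℕ) (V₁ : Type v) (V₂ : Type w)
    [AddCommGroup V₁] [Module K V₁] [FiniteDimensional K V₁]
    [AddCommGroup V₂] [Module K V₂] [FiniteDimensional K V₂]
    (π₁ : Module.End K V₁) (π₂ : Module.End K V₂), π₁.IsSemisimple → π₂.IsSemisimple →
    finrank K V₁ + finrank K V₂ = n →
    finrank K (ker (T π₁ π₂)) = r π₁.charpoly π₂.charpoly := by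
  intro n
  induction n using Nat.strong_induction_on with
  | _ n ih =>
  intro V₁ V₂ _ _ _ _ _ _ π₁ π₂ h₁ h₂ hn
  rcases trichotomy π₁ h₁ with hsub | hsimp₁ | ⟨A, B, hA, hB, hAB, hlA, hlB⟩
  · have hc : π₁.charpoly = 1 := charpoly_of_subsingleton π₁
    rw [hc, r_one_left]
    haveI : Subsingleton (V₁ →ₗ[K] V₂) :=
      ⟨fun f g => LinearMap.ext fun x => by rw [Subsingleton.elim x 0, map_zero, map_zero]⟩
    exact Module.finrank_zero_of_subsingleton
  · rcases trichotomy π₂ h₂ with hsub | hsimp₂ | ⟨A, B, hA, hB, hAB, hlA, hlB⟩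
    · have hc : π₂.charpoly = 1 := charpoly_of_subsingleton π₂
      rw [hc, r_one_right]
      haveI : Subsingleton (V₁ →ₗ[K] V₂) :=
        ⟨fun f g => LinearMap.ext fun x => Subsingleton.elim _ _⟩
      exact Module.finrank_zero_of_subsingleton
    · by_cases heq : π₁.charpoly = π₂.charpoly
      · rw [finrank_ker_T_simple hsimp₁ hsimp₂ heq,
          r_irreducible hsimp₁.irreducible_charpoly (LinearMap.charpoly_monic _)
            hsimp₂.irreducible_charpoly (LinearMap.charpoly_monic _), if_pos heq, heq,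
          LinearMap.charpoly_natDegree]
      · rw [ker_T_eq_bot hsimp₁ hsimp₂ heq, finrank_bot,
          r_irreducible hsimp₁.irreducible_charpoly (LinearMap.charpoly_monic _)
            hsimp₂.irreducible_charpoly (LinearMap.charpoly_monic _), if_neg heq]
    · rw [finrank_ker_T_right π₁ π₂ hA hB hAB, charpoly_split π₂ hA hB hAB,
        r_mul_right _ (LinearMap.charpoly_monic _).ne_zero (LinearMap.charpoly_monic _).ne_zero,
        ih (finrank K V₁ + finrank K A) (by omega) V₁ A π₁ (π₂.restrict hA) h₁ (h₂.restrict hA)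
          rfl,
        ih (finrank K V₁ + finrank K B) (by omega) V₁ B π₁ (π₂.restrict hB) h₁ (h₂.restrict hB)
          rfl]
  · rw [finrank_ker_T_left π₁ π₂ hA hB hAB, charpoly_split π₁ hA hB hAB,
      r_mul_left (LinearMap.charpoly_monic _).ne_zero (LinearMap.charpoly_monic _).ne_zero,
      ih (finrank K A + finrank K V₂) (by omega) A V₂ (π₁.restrict hA) π₂ (h₁.restrict hA) h₂
        rfl,
      ih (finrank K B + finrank K V₂) (by omega) B V₂ (π₁.restrict hB) π₂ (h₁.restrict hB) h₂
        rfl]

/-- **Dimension of the commutant Hom for semisimple endomorphisms.** -/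
theorem main [DecidableEq K] [DecidableEq K[X]] (V₁ : Type v) (V₂ : Type w)
    [AddCommGroup V₁] [Module K V₁] [FiniteDimensional K V₁]
    [AddCommGroup V₂] [Module K V₂] [FiniteDimensional K V₂]
    (π₁ : Module.End K V₁) (π₂ : Module.End K V₂) (h₁ : π₁.IsSemisimple)
    (h₂ : π₂.IsSemisimple) :
    finrank K (ker (LinearMap.lcomp K V₂ π₁ - LinearMap.llcomp K V₁ V₂ V₂ π₂ :
        (V₁ →ₗ[K] V₂) →ₗ[K] (V₁ →ₗ[K] V₂))) =
      ∑ P ∈ (UniqueFactorizationMonoid.normalizedFactors π₁.charpoly).toFinset,
        (UniqueFactorizationMonoid.normalizedFactors π₁.charpoly).count P *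
          (UniqueFactorizationMonoid.normalizedFactors π₂.charpoly).count P * P.natDegree :=
  main_aux _ V₁ V₂ π₁ π₂ h₁ h₂ rfl

end Groth.Agent.Lib.Helper6.CommHom
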